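import Cfsg.Agent.H85.Bal
import Cfsg.Agent.SignalizersComponents.CoprimeGen
import Cfsg.Agent.H42.Tw.Pair
import Cfsg.Agent.S0126
import Cfsg.Agent.PreUniq.LowExc.Index

/-!
# Balance for `²F₄(q)` (S2188, task 2705): abstract lemmas (helper240)

* `VP p e V` : `V` is a subgroup of `C(e)` of order prime to `p`, normalised by `C(e)` (e.g. `O_{p'}(C(e))`);
* `VP.inf_simple` : `V ⊓ M = 1` for simple `M ≤ C(e)` of order divisible by `p`;
* `cop` : generation of `V` by the centralisers of the elements of a four-group;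
* `pair_lem` : elementary abelian subgroups of order `p ^ 2` in a group with Sylow subgroup in `L × M`;
* `bal_of` : reduction of `Bal` to inner automorphisms.
-/

set_option autoImplicit false
set_option linter.unusedSectionVars false

namespace Cfsg.Agent.H240.BalTwF

open Subgroup Cfsg Cfsg.Agent.H42.Tw Cfsg.Agent.H795

variable {G : Type*} [Group G]

/-- `V` is a subgroup of `C(e)` of order prime to `p`, normalised by `C(e)` -/
structure VP (p : ℕ) (e : G) (V : Subgroup G) : Prop where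
  cent : ∀ v ∈ V, e * v = v * e
  norm : ∀ x, e * x = x * e → ∀ v ∈ V, x * v * x⁻¹ ∈ V
  cop : (Nat.card V).Coprime p

theorem vp_Cr [Finite G] (p : ℕ) (e : G) : VP p e (H85.Cr p (MulAut.conj e)) := by
  have key : ∀ x : G, e * x = x * e → MulAut.conj e x = x := fun x h => by
    rw [MulAut.conj_apply, h, mul_inv_cancel_right]
  refine ⟨fun v hv => ?_, fun x hx v hv => H85.conj_mem_Cr hv (key x hx), H85.card_Cr _⟩
  have h1 : MulAut.conj e v = v := H85.Cr_le _ hv
  rw [MulAut.conj_apply] at h1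
  exact mul_inv_eq_iff_eq_mul.1 h1

theorem VP.map {H : Type*} [Group H] (f : G ≃* H) {p : ℕ} {e : G} {V : Subgroup G} (h : VP p e V) :
    VP p (f e) (V.map f.toMonoidHom) := by
  refine ⟨?_, ?_, ?_⟩
  · rintro _ ⟨v, hv, rfl⟩
    show f e * f v = f v * f e
    rw [← map_mul, h.cent v hv, map_mul]
  · rintro x hx _ ⟨v, hv, rfl⟩
    refine ⟨f.symm x * v * (f.symm x)⁻¹, h.norm _ ?_ v hv, ?_⟩
    · apply f.injective
      rw [map_mul, map_mul, f.apply_symm_apply, hx]
    · show f (f.symm x * v * (f.symm x)⁻¹) = x * f v * x⁻¹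
      rw [map_mul, map_mul, map_inv, f.apply_symm_apply]
  · rw [card_map_of_injective f.injective]
    exact h.cop

/-- elements of order a power of `p` of `V` are trivial -/
theorem VP.eq_one [Finite G] {p : ℕ} {e : G} {V : Subgroup G} (h : VP p e V) {x : G} (hx : x ∈ V) {k : ℕ}
    (hk : x ^ p ^ k = 1) : x = 1 := by
  have h1 : orderOf x ∣ p ^ k := orderOf_dvd_of_pow_eq_one hk
  have h2 : orderOf x ∣ Nat.card V := by
    have := orderOf_dvd_natCard (⟨x, hx⟩ : V)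
    rwa [Subgroup.orderOf_mk] at this
  exact orderOf_eq_one_iff.1 (Nat.eq_one_of_dvd_coprimes (Nat.Coprime.pow_left k h.cop.symm) h1 h2)

theorem VP.inf_simple [Finite G] {p : ℕ} (hp : p.Prime) {e : G} {V M : Subgroup G} (h : VP p e V) [IsSimpleGroup M]
    (hM : ∀ x ∈ M, e * x = x * e) (hpM : p ∣ Nat.card M) {x : G} (hx : x ∈ V) (hx' : x ∈ M) : x = 1 := by
  have h3 : (V.subgroupOf M).Normal := ⟨fun n hn' g => by
    rw [mem_subgroupOf] at hn' ⊢
    exact h.norm g (hM g g.2) n hn'⟩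
  rcases h3.eq_bot_or_eq_top with h4 | h4
  · have h5 : (⟨x, hx'⟩ : M) ∈ V.subgroupOf M := hx
    rw [h4, mem_bot] at h5
    exact congrArg Subtype.val h5
  · exfalso
    rw [subgroupOf_eq_top] at h4
    have h5 : p ∣ Nat.card V := hpM.trans (card_dvd_of_le h4)
    have h6 := Nat.dvd_gcd h5 (dvd_refl p)
    rw [h.cop] at h6
    exact hp.one_lt.ne' (Nat.dvd_one.1 h6)

/-- **coprime generation for a four-group** -/
theorem cop [Finite G] {V Z C : Subgroup G} (hZ : ∀ z ∈ Z, ∀ z' ∈ Z, z * z' = z' * z) (hZ2 : ∀ z ∈ Z, z * z = 1)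
    (hZ4 : 4 ≤ Nat.card Z) (hn : ∀ z ∈ Z, ∀ v ∈ V, z * v * z⁻¹ ∈ V)
    (hc : ∀ z ∈ Z, z ≠ 1 → ∀ v ∈ V, z * v = v * z → v ∈ C)
    (h2 : ∀ v ∈ V, v ∈ C → v * v = 1 → v = 1) : V ≤ C := by
  classical
  have : Fact (Nat.Prime 2) := ⟨Nat.prime_two⟩
  have hZel : IsElementaryAbelian 2 Z := ⟨isMulCommutative_of hZ, fun z hz => by rw [pow_two, hZ2 z hz]⟩
  obtain ⟨z, hz, hz1⟩ : ∃ z ∈ Z, z ≠ 1 := by
    by_contra hcon
    push Not at hcon
    have h1 : Z = ⊥ := (eq_bot_iff_forall Z).2 hcon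
    rw [h1, Subgroup.card_bot] at hZ4
    omega
  have hnn : ∀ z ∈ Z, ∀ v, v ∈ V ↔ z * v * z⁻¹ ∈ V := fun z hz v => by
    refine ⟨fun h => hn z hz v h, fun h => ?_⟩
    have h1 := hn z⁻¹ (inv_mem hz) _ h
    have e : z⁻¹ * (z * v * z⁻¹) * z⁻¹⁻¹ = v := by group
    rwa [e] at h1
  have hodd : ¬ 2 ∣ Nat.card V := by
    intro hd
    let e : MulAut V :=
      { toFun := fun v => ⟨z * v * z⁻¹, hn z hz v v.2⟩
        invFun := fun v => ⟨z⁻¹ * v * z⁻¹⁻¹, hn z⁻¹ (inv_mem hz) v v.2⟩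
        left_inv := fun v => Subtype.ext (by show z⁻¹ * (z * v * z⁻¹) * z⁻¹⁻¹ = v; group)
        right_inv := fun v => Subtype.ext (by show z * (z⁻¹ * v * z⁻¹⁻¹) * z⁻¹ = v; group)
        map_mul' := fun v w => Subtype.ext (by
          show z * (v * w) * z⁻¹ = (z * v * z⁻¹) * (z * w * z⁻¹); group) }
    have he : e ^ 2 = 1 := by
      ext v
      show z * (z * v * z⁻¹) * z⁻¹ = v
      have h3 := hZ2 z hz
      have h4 : z⁻¹ * z⁻¹ = 1 := by rw [← mul_inv_rev, h3, inv_one]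
      calc z * (z * v * z⁻¹) * z⁻¹ = (z * z) * v * (z⁻¹ * z⁻¹) := by group
        _ = v := by rw [h3, h4, one_mul, mul_one]
    have h3 := H85.dvd_fixed Nat.prime_two hd he
    obtain ⟨⟨⟨v, hv⟩, hvf⟩, hvo⟩ := exists_prime_orderOf_dvd_card' 2 h3
    have hvf' : z * v * z⁻¹ = v := congrArg Subtype.val (show e ⟨v, hv⟩ = ⟨v, hv⟩ from hvf)
    have hv2 : v * v = 1 := by
      have h5 := pow_orderOf_eq_one (⟨⟨v, hv⟩, hvf⟩ : ↥(fixedSubgroup e))
      rw [hvo, pow_two] at h5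
      exact congrArg Subtype.val (congrArg Subtype.val h5)
    have hv1 := h2 v hv (hc z hz hz1 v hv (mul_inv_eq_iff_eq_mul.1 hvf')) hv2
    subst hv1
    have h6 : (⟨⟨1, hv⟩, hvf⟩ : ↥(fixedSubgroup e)) = 1 := rfl
    rw [h6, orderOf_one] at hvo
    omega
  have hZN : Z ≤ normalizer (V : Set G) := fun z hz => mem_normalizer_iff.2 (hnn z hz)
  refine (SignalizersComponents.CoprimeGen.le_iSup_centralizer_ne_one (p := 2) hZel (by norm_num; exact hZ4) hodd
    hZN).trans (iSup_le ?_)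
  rintro ⟨z, hz, hz1⟩ x ⟨hxV, hxt⟩
  exact hc z hz hz1 x hxV (mem_centralizer_singleton_iff.1 hxt).symm

/-- a `p`-subgroup is conjugate to a subgroup of a subgroup of index prime to `p` -/
theorem exists_conj_le [Finite G] {p : ℕ} (hp : p.Prime) {T A : Subgroup G} (h : ¬ p ∣ T.index) (hA : IsPGroup p A) :
    ∃ g : G, ∀ a ∈ A, g * a * g⁻¹ ∈ T := by
  obtain ⟨g, hg⟩ := PreUniq.LowExc.exists_conj_inf_pow (T := T) hA hp (j := 0) (by rw [zero_add, pow_one]; exact h)
  refine ⟨g, fun a ha => ?_⟩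
  rw [pow_zero, one_mul] at hg
  have h1 : A.map (MulAut.conj g).toMonoidHom ⊓ T = A.map (MulAut.conj g).toMonoidHom := by
    refine Subgroup.eq_of_le_of_card_ge inf_le_left ?_
    rw [card_map_of_injective (MulAut.conj g).injective]
    exact hg
  have h2 : g * a * g⁻¹ ∈ A.map (MulAut.conj g).toMonoidHom := ⟨a, ha, rfl⟩
  rw [← h1] at h2
  exact h2.2

/-- **the Sylow structure of `L × M`** -/
theorem pair_lem [Finite G] {p : ℕ} [hp : Fact p.Prime] {L M : Subgroup G} (θ : MulAut G)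
    (hM : ∀ l ∈ L, θ l ∈ M) (hcomm : ∀ l ∈ L, ∀ m ∈ M, l * m = m * l) (hinf : ∀ x ∈ L, x ∈ M → x = 1)
    (hcyc : ∀ P : Subgroup G, P ≤ L → IsPGroup p P → IsCyclic P)
    (hcard : (Nat.card G).factorization p ≤ 2 * (Nat.card L).factorization p)
    {E : Subgroup G} (hE : ∀ a ∈ E, a ^ p = 1) (hc : Nat.card E = p ^ 2) :
    ∃ g : G, (∃ a ∈ E, a ≠ 1 ∧ g * a * g⁻¹ ∈ L) ∧ ∃ b ∈ E, b ≠ 1 ∧ g * b * g⁻¹ ∈ M := by
  classical
  obtain ⟨P⟩ : Nonempty (Sylow p L) := inferInstance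
  set PL : Subgroup G := (P : Subgroup L).map L.subtype with hPL
  have hPLL : PL ≤ L := map_subtype_le _
  have hPLp : IsPGroup p PL := P.2.map _
  have hPLc : IsCyclic PL := hcyc PL hPLL hPLp
  have hcPL : Nat.card PL = p ^ (Nat.card L).factorization p := by
    rw [hPL, Nat.card_congr ((P : Subgroup L).equivMapOfInjective L.subtype L.subtype_injective).toEquiv.symm,
      Sylow.card_eq_multiplicity]
  set PM : Subgroup G := PL.map θ.toMonoidHom with hPM
  have hPMM : PM ≤ M := by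
    rintro _ ⟨x, hx, rfl⟩
    exact hM x (hPLL hx)
  have hPMp : IsPGroup p PM := hPLp.map _
  have hPMc : IsCyclic PM := by
    have e : PL ≃* PM := PL.equivMapOfInjective _ θ.injective
    exact isCyclic_of_surjective e.toMonoidHom e.surjective
  have hcommP : ∀ x ∈ PL, ∀ y ∈ PM, x * y = y * x := fun x hx y hy => hcomm x (hPLL hx) y (hPMM hy)
  let D : Subgroup G :=
    { carrier := {g | ∃ x ∈ PL, ∃ y ∈ PM, g = x * y}
      one_mem' := ⟨1, one_mem _, 1, one_mem _, by simp⟩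
      mul_mem' := by
        rintro _ _ ⟨x, hx, y, hy, rfl⟩ ⟨x', hx', y', hy', rfl⟩
        refine ⟨x * x', mul_mem hx hx', y * y', mul_mem hy hy', ?_⟩
        calc x * y * (x' * y') = x * (y * x') * y' := by group
          _ = x * (x' * y) * y' := by rw [hcommP x' hx' y hy]
          _ = x * x' * (y * y') := by group
      inv_mem' := by
        rintro _ ⟨x, hx, y, hy, rfl⟩
        refine ⟨x⁻¹, inv_mem hx, y⁻¹, inv_mem hy, ?_⟩
        rw [mul_inv_rev, hcommP x⁻¹ (inv_mem hx) y⁻¹ (inv_mem hy)] }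
  have huniq : ∀ x ∈ L, ∀ y ∈ M, ∀ x' ∈ L, ∀ y' ∈ M, x * y = x' * y' → x = x' ∧ y = y' := by
    intro x hx y hy x' hx' y' hy' h1
    have h2 : x'⁻¹ * x = y' * y⁻¹ := by
      rw [eq_mul_inv_iff_mul_eq, mul_assoc, h1, inv_mul_cancel_left]
    have h3 : x'⁻¹ * x = 1 := hinf _ (mul_mem (inv_mem hx') hx) (by
      rw [h2]; exact mul_mem hy' (inv_mem hy))
    have h4 : x = x' := (inv_mul_eq_one.1 h3).symm
    subst h4
    exact ⟨rfl, mul_left_cancel h1⟩
  have hcardD : Nat.card D = Nat.card PL * Nat.card PM := by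
    rw [← Nat.card_prod]
    symm
    refine Nat.card_eq_of_bijective (fun x : PL × PM => (⟨x.1 * x.2, x.1, x.1.2, x.2, x.2.2, rfl⟩ : D)) ⟨?_, ?_⟩
    · rintro ⟨⟨x, hx⟩, ⟨y, hy⟩⟩ ⟨⟨x', hx'⟩, ⟨y', hy'⟩⟩ h
      obtain ⟨h1, h2⟩ := huniq x (hPLL hx) y (hPMM hy) x' (hPLL hx') y' (hPMM hy') (congrArg Subtype.val h)
      subst h1; subst h2; rfl
    · rintro ⟨g, x, hx, y, hy, rfl⟩
      exact ⟨(⟨x, hx⟩, ⟨y, hy⟩), rfl⟩
  have hcPM : Nat.card PM = Nat.card PL :=
    (Nat.card_congr (PL.equivMapOfInjective _ θ.injective).toEquiv).symm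
  have hD1 : Nat.card D = p ^ (2 * (Nat.card L).factorization p) := by
    rw [hcardD, hcPM, hcPL, ← pow_add, two_mul]
  have hDle : 2 * (Nat.card L).factorization p ≤ (Nat.card G).factorization p := by
    rw [← hp.out.pow_dvd_iff_le_factorization Nat.card_pos.ne', ← hD1]
    exact card_subgroup_dvd_card D
  let S : Sylow p G := Sylow.ofCard D (by rw [hD1, le_antisymm hDle hcard])
  have hSD : (S : Subgroup G) = D := rfl
  -- conjugation of `E` into `D`
  have hEp : IsPGroup p E := IsPGroup.of_card (n := 2) hc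
  obtain ⟨R, hR⟩ := hEp.exists_le_sylow
  obtain ⟨g, hg⟩ := MulAction.exists_smul_eq G R S
  have hgE : ∀ a ∈ E, ∃ x ∈ PL, ∃ y ∈ PM, g * a * g⁻¹ = x * y := by
    intro a ha
    have h1 : g * a * g⁻¹ ∈ (S : Subgroup G) := by
      rw [← hg, Sylow.coe_subgroup_smul]
      exact ⟨_, hR ha, rfl⟩
    exact h1
  choose! fx hfx fy hfy hfxy using hgE
  have hord : ∀ a ∈ E, fx a ^ p = 1 ∧ fy a ^ p = 1 := by
    intro a ha
    have h1 : (fx a * fy a) ^ p = 1 := by
      rw [← hfxy a ha, conj_pow, hE a ha, mul_one, mul_inv_cancel]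
    rw [(show Commute (fx a) (fy a) from hcommP _ (hfx a ha) _ (hfy a ha)).mul_pow] at h1
    exact huniq _ (pow_mem (hPLL (hfx a ha)) p) _ (pow_mem (hPMM (hfy a ha)) p) 1 (one_mem _) 1 (one_mem _)
      (by rw [h1, one_mul])
  -- counting
  have := Fintype.ofFinite PL
  have := Fintype.ofFinite PM
  let A : Finset PL := Finset.univ.filter fun x : PL => x ^ p = 1
  let B : Finset PM := Finset.univ.filter fun x : PM => x ^ p = 1
  have hA : A.card ≤ p := IsCyclic.card_pow_eq_one_le (α := PL) (n := p) hp.out.pos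
  have hB : B.card ≤ p := IsCyclic.card_pow_eq_one_le (α := PM) (n := p) hp.out.pos
  let f : E → A × B := fun a => (⟨⟨fx a, hfx a a.2⟩, Finset.mem_filter.2 ⟨Finset.mem_univ _, Subtype.ext (hord a a.2).1⟩⟩,
    ⟨⟨fy a, hfy a a.2⟩, Finset.mem_filter.2 ⟨Finset.mem_univ _, Subtype.ext (hord a a.2).2⟩⟩)
  have hf : Function.Injective f := by
    rintro ⟨a, ha⟩ ⟨b, hb⟩ h
    have h1 : fx a = fx b := congrArg (fun w => ((w.1 : PL) : G)) h
    have h2 : fy a = fy b := congrArg (fun w => ((w.2 : PM) : G)) h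
    apply Subtype.ext
    have h3 := hfxy a ha
    rw [h1, h2, ← hfxy b hb] at h3
    exact mul_left_cancel (mul_right_cancel h3)
  have hcE := Nat.card_le_card_of_injective f hf
  rw [Nat.card_prod, hc, Nat.card_eq_fintype_card, Nat.card_eq_fintype_card, Fintype.card_coe, Fintype.card_coe] at hcE
  have hpos := hp.out.pos
  have hA' : A.card = p := by
    by_contra hne
    have : A.card + 1 ≤ p := by omega
    have h1 : A.card * B.card ≤ (p - 1) * p := Nat.mul_le_mul (by omega) hB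
    have h2 : (p - 1) * p < p ^ 2 := by
      rw [pow_two]
      exact Nat.mul_lt_mul_of_pos_right (by omega) hpos
    omega
  have hB' : B.card = p := by
    by_contra hne
    have : B.card + 1 ≤ p := by omega
    have h1 : A.card * B.card ≤ p * (p - 1) := Nat.mul_le_mul hA (by omega)
    have h2 : p * (p - 1) < p ^ 2 := by
      rw [pow_two]
      exact Nat.mul_lt_mul_of_pos_left (by omega) hpos
    omega
  have hbij : Function.Bijective f := by
    rw [Nat.bijective_iff_injective_and_card]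
    refine ⟨hf, ?_⟩
    rw [Nat.card_prod, hc, Nat.card_eq_fintype_card, Nat.card_eq_fintype_card, Fintype.card_coe, Fintype.card_coe, hA',
      hB', pow_two]
  have hA1 : (1 : PL) ∈ A := Finset.mem_filter.2 ⟨Finset.mem_univ _, one_pow _⟩
  have hB1 : (1 : PM) ∈ B := Finset.mem_filter.2 ⟨Finset.mem_univ _, one_pow _⟩
  refine ⟨g, ?_, ?_⟩
  · obtain ⟨x, hx, hx1⟩ := Finset.exists_mem_ne (s := A) (by rw [hA']; exact hp.out.one_lt) 1
    obtain ⟨⟨a, ha⟩, hae⟩ := hbij.2 (⟨x, hx⟩, ⟨1, hB1⟩)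
    have h1 : fx a = x := congrArg (fun w => ((w.1 : PL) : G)) hae
    have h2 : fy a = 1 := congrArg (fun w => ((w.2 : PM) : G)) hae
    have h3 := hfxy a ha
    rw [h1, h2, mul_one] at h3
    refine ⟨a, ha, ?_, ?_⟩
    · rintro rfl
      rw [mul_one, mul_inv_cancel] at h3
      exact hx1 (Subtype.ext h3.symm)
    · rw [h3]
      exact hPLL x.2
  · obtain ⟨y, hy, hy1⟩ := Finset.exists_mem_ne (s := B) (by rw [hB']; exact hp.out.one_lt) 1
    obtain ⟨⟨a, ha⟩, hae⟩ := hbij.2 (⟨1, hA1⟩, ⟨y, hy⟩)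
    have h1 : fx a = 1 := congrArg (fun w => ((w.1 : PL) : G)) hae
    have h2 : fy a = y := congrArg (fun w => ((w.2 : PM) : G)) hae
    have h3 := hfxy a ha
    rw [h1, h2, one_mul] at h3
    refine ⟨a, ha, ?_, ?_⟩
    · rintro rfl
      rw [mul_one, mul_inv_cancel] at h3
      exact hy1 (Subtype.ext h3.symm)
    · rw [h3]
      exact hPMM y.2

/-- cyclicity from the rank -/
theorem cyc_of_rank [Finite G] {p : ℕ} [hp : Fact p.Prime] (hp2 : p ≠ 2) {L M : Subgroup G}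
    (hcomm : ∀ l ∈ L, ∀ m ∈ M, l * m = m * l) (hinf : ∀ x ∈ L, x ∈ M → x = 1) (hpM : p ∣ Nat.card M)
    (hrk : PRankLE p 2 G) (P : Subgroup G) (hP : P ≤ L) (hPp : IsPGroup p P) : IsCyclic P := by
  by_contra hnc
  obtain ⟨A, -, hA, hc⟩ := Cfsg.Agent.S0126.result hp2 hPp hnc
  obtain ⟨⟨m, hm⟩, hmo⟩ := exists_prime_orderOf_dvd_card' p hpM
  rw [Subgroup.orderOf_mk] at hmo
  have hmp : m ^ p = 1 := by rw [← hmo]; exact pow_orderOf_eq_one m
  have hAG : ∀ a ∈ A, ((a : P) : G) ∈ L := fun a _ => hP a.2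
  -- the subgroup `A × ⟨m⟩`
  let D : Subgroup G :=
    { carrier := {g | ∃ x ∈ A.map P.subtype, ∃ y ∈ zpowers m, g = x * y}
      one_mem' := ⟨1, one_mem _, 1, one_mem _, by simp⟩
      mul_mem' := by
        rintro _ _ ⟨x, ⟨a, ha, rfl⟩, y, hy, rfl⟩ ⟨x', ⟨a', ha', rfl⟩, y', hy', rfl⟩
        refine ⟨_, mul_mem (mem_map_of_mem _ ha) (mem_map_of_mem _ ha'), y * y', mul_mem hy hy', ?_⟩
        have h1 := hcomm _ (hAG a' ha') y ((zpowers_le.2 hm) hy)
        calc P.subtype a * y * (P.subtype a' * y') = P.subtype a * (y * P.subtype a') * y' := by group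
          _ = P.subtype a * (P.subtype a' * y) * y' := by
            rw [show y * P.subtype a' = P.subtype a' * y from h1.symm]
          _ = P.subtype a * P.subtype a' * (y * y') := by group
      inv_mem' := by
        rintro _ ⟨x, ⟨a, ha, rfl⟩, y, hy, rfl⟩
        refine ⟨_, inv_mem (mem_map_of_mem _ ha), y⁻¹, inv_mem hy, ?_⟩
        have h1 := hcomm _ (inv_mem (hAG a ha)) y⁻¹ ((zpowers_le.2 hm) (inv_mem hy))
        rw [mul_inv_rev]
        exact h1.symm }
  have hDel : IsElementaryAbelian p D := by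
    refine ⟨isMulCommutative_of ?_, ?_⟩
    · rintro _ ⟨x, ⟨a, ha, rfl⟩, y, ⟨i, rfl⟩, rfl⟩ _ ⟨x', ⟨a', ha', rfl⟩, y', ⟨j, rfl⟩, rfl⟩
      have h1 : Commute (P.subtype a) (P.subtype a') := by
        show P.subtype a * P.subtype a' = P.subtype a' * P.subtype a
        rw [← map_mul, comm_of hA.1 ha ha', map_mul]
      have h2 : Commute (P.subtype a) m := hcomm _ (hAG a ha) m hm
      have h3 : Commute (P.subtype a') m := hcomm _ (hAG a' ha') m hm
      exact ((h1.mul_right (h2.zpow_right j)).mul_left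
        (((h3.zpow_right i).symm).mul_right ((Commute.refl m).zpow_zpow i j))).eq
    · rintro _ ⟨x, ⟨a, ha, rfl⟩, y, ⟨i, rfl⟩, rfl⟩
      have h2 : Commute (P.subtype a) m := hcomm _ (hAG a ha) m hm
      show (P.subtype a * m ^ i) ^ p = 1
      rw [(h2.zpow_right i).mul_pow, ← map_pow, hA.2 a ha, map_one, one_mul, ← zpow_natCast, ← zpow_mul, mul_comm,
        zpow_mul, zpow_natCast, hmp, one_zpow]
  have hDc : p ^ 3 ≤ Nat.card D := by
    have h1 : Function.Injective (fun x : A × zpowers m => (⟨(x.1 : P) * (x.2 : G), _, mem_map_of_mem P.subtype x.1.2, _,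
      x.2.2, rfl⟩ : D)) := by
      rintro ⟨⟨⟨a, haP⟩, ha⟩, ⟨y, hy⟩⟩ ⟨⟨⟨a', haP'⟩, ha'⟩, ⟨y', hy'⟩⟩ h
      have h1 : a * y = a' * y' := congrArg Subtype.val h
      have h2 : a'⁻¹ * a = y' * y⁻¹ := by
        rw [eq_mul_inv_iff_mul_eq, mul_assoc, h1, inv_mul_cancel_left]
      have h3 : a'⁻¹ * a = 1 := hinf _ (mul_mem (inv_mem (hP haP')) (hP haP)) (by
        rw [h2]; exact (zpowers_le.2 hm) (mul_mem hy' (inv_mem hy)))
      have h4 : a = a' := (inv_mul_eq_one.1 h3).symm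
      subst h4
      have h5 : y = y' := mul_left_cancel h1
      subst h5
      rfl
    have h2 := Nat.card_le_card_of_injective _ h1
    rw [Nat.card_prod, hc, Nat.card_zpowers, hmo] at h2
    rwa [pow_succ]
  have h3 := hrk D hDel.1 hDel.2
  have h4 : p ^ 2 < p ^ 3 := Nat.pow_lt_pow_right hp.out.one_lt (by norm_num)
  omega

end Cfsg.Agent.H240.BalTwF
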