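import Cfsg.Agent.H240.BalTwF.Tp
import Cfsg.Agent.H240.BalTwF.Abs
import Cfsg.Agent.H496.TwFRad.Cent
import Cfsg.Agent.WeakTI.PslTwo
import Cfsg.Agent.H448.FprTwF.Plus
import Cfsg.Agent.H42.Tw.AbF4

/-!
# Balance for `²F₄(q)` (S2188, task 2705): `p ≥ 5` dividing `q + 1` (helper240)

* `simple_LO` : `LO = ⟨X_1, X_9⟩ ≅ SL₂(q)` is simple;
* `le_LO` : if `e ∈ LO` has order `p ≥ 5` and `V = O_{p'}(C(e))`, then `V ≤ LO`;
* `bal_plus`.
-/

set_option autoImplicit false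
set_option linter.unusedSectionVars false

namespace Cfsg.Agent.H240.BalTwF

open Subgroup Cfsg
open Cfsg.Agent.SplitTwo Cfsg.Agent.SplitTwo.ZS Cfsg.Agent.TitsThree.RankTwoZ Cfsg.Agent.SplitTwo.RootSysZ
open Cfsg.Agent.KFacts.TwF4 Cfsg.Agent.KFacts.TwF4.Arc Cfsg.Agent.KFacts.TwF4.Irr Cfsg.Agent.KFacts.TwF4.Perf
open Cfsg.Agent.KFacts.TwF4.Inv
open Cfsg.Agent.H772.TF Cfsg.Agent.H496.TwEight.HOFacts Cfsg.Agent.ONan.SL2Hom

universe u

variable {F : Type*} [Field F] {σ : F →+* F} {G : Type u} [Group G] (S : Full σ G)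
variable [Finite F] [Finite G]

theorem pair_sup {G : Type*} [Group G] [Finite G] {p : ℕ} [hp : Fact p.Prime] {y z : G} (hy : orderOf y = p)
    (hz : orderOf z = p) (hyz : y * z = z * y) (hn : z ∉ zpowers y) :
    IsElementaryAbelian p (zpowers y ⊔ zpowers z) ∧ Nat.card ↥(zpowers y ⊔ zpowers z) = p ^ 2 := by
  have hc : ∀ (i j : ℤ), y ^ i * z ^ j = z ^ j * y ^ i := fun i j => ((show Commute y z from hyz).zpow_zpow i j).eq
  have hform : ∀ a ∈ zpowers y ⊔ zpowers z, ∃ b ∈ zpowers y, ∃ d ∈ zpowers z, a = b * d := fun a ha =>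
    Cfsg.Agent.SplitTwo.ZS.mem_sup_of_norm (by
      rintro _ ⟨i, rfl⟩ _ ⟨j, rfl⟩
      show y ^ i * z ^ j * (y ^ i)⁻¹ ∈ _
      rw [hc, mul_inv_cancel_right]
      exact ⟨j, rfl⟩) ha
  refine ⟨⟨H795.isMulCommutative_of ?_, ?_⟩, ?_⟩
  · intro a ha b hb
    obtain ⟨_, ⟨i, rfl⟩, _, ⟨j, rfl⟩, rfl⟩ := hform a ha
    obtain ⟨_, ⟨i', rfl⟩, _, ⟨j', rfl⟩, rfl⟩ := hform b hb
    have h1 : Commute y z := hyz
    have h2 : Commute (y ^ i * z ^ j) (y ^ i' * z ^ j') := by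
      refine Commute.mul_left (Commute.mul_right ?_ ?_) (Commute.mul_right ?_ ?_)
      · exact (Commute.refl y).zpow_zpow _ _
      · exact h1.zpow_zpow _ _
      · exact h1.symm.zpow_zpow _ _
      · exact (Commute.refl z).zpow_zpow _ _
    exact h2.eq
  · intro a ha
    obtain ⟨_, ⟨i, rfl⟩, _, ⟨j, rfl⟩, rfl⟩ := hform a ha
    have h1 : Commute (y ^ i) (z ^ j) := hc i j
    show (y ^ i * z ^ j) ^ p = 1
    rw [h1.mul_pow, ← zpow_natCast, ← zpow_natCast, ← zpow_mul, ← zpow_mul, mul_comm i, mul_comm j, zpow_mul, zpow_mul,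
      zpow_natCast, zpow_natCast]
    have e1 : y ^ p = 1 := by rw [← hy]; exact pow_orderOf_eq_one y
    have e2 : z ^ p = 1 := by rw [← hz]; exact pow_orderOf_eq_one z
    rw [e1, e2, one_zpow, one_zpow, one_mul]
  · rw [Cfsg.Agent.CpAutTwF.Count.card_mul_of (A := zpowers y) (B := zpowers z) le_sup_left le_sup_right hform,
      Nat.card_zpowers, Nat.card_zpowers, hy, hz, pow_two]
    intro x hx hx'
    by_contra hx1
    have h1 := Cfsg.Agent.H496.TwFRad.Cent.mem_zpowers_of hz hx1 hx'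
    exact hn ((zpowers_le.2 hx) h1)

theorem LO_le_range : S.LO ≤ (rel S).hom.range := by
  have h0 : ∀ t, S.o 0 t ∈ (rel S).hom.range := by
    intro t
    refine ⟨mk 1 t 0 1 (by ring), ?_⟩
    rw [Rel.hom_apply, Phi_of_eq (show (mk (1 : F) t 0 1 (by ring)).1 1 0 = 0 from rfl)]
    show nu S 1 * S.o 0 (t / 1) = S.o 0 t
    have h2 : Units.mk0 (1 : F) one_ne_zero = 1 := Units.ext rfl
    rw [nu_ne S one_ne_zero, h2, S.h_one, one_mul, div_one]
  have hn : S.n1 ∈ (rel S).hom.range := by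
    have hd : (0 : F) * 0 - 1 * 1 = 1 := by
      have h2 : (2 : F) = 0 := S.two
      linear_combination -h2
    refine ⟨mk 0 1 1 0 hd, ?_⟩
    rw [Rel.hom_apply, Phi_of_ne (show (mk (0 : F) 1 1 0 hd).1 1 0 ≠ 0 from one_ne_zero)]
    show S.o 0 (0 / 1) * nu S (1 / (1 * 1)) * S.n1 * S.o 0 (0 / 1) = S.n1
    have h2 : Units.mk0 (1 : F) one_ne_zero = 1 := Units.ext rfl
    rw [mul_one, div_one, div_one, nu_ne S one_ne_zero, h2, S.h_one, S.o_zero, one_mul, one_mul, mul_one]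
  refine sup_le (fun x hx => ?_) (fun x hx => ?_)
  · obtain ⟨t, rfl⟩ := (mem_X1 S).1 hx
    exact h0 t
  · obtain ⟨t, rfl⟩ := (mem_X9 S).1 hx
    have h1 := S.n1_o 0 t
    rw [sub_zero] at h1
    rw [← h1]
    exact mul_mem (mul_mem hn (h0 t)) (inv_mem hn)

theorem nonempty_LO : Nonempty (↥S.LO ≃* Matrix.SpecialLinearGroup (Fin 2) F) := by
  refine ⟨(MulEquiv.ofBijective ((rel S).hom.codRestrict S.LO (hom_mem S)) ⟨fun a b h => ?_, fun x => ?_⟩).symm⟩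
  · exact hom_inj S (congrArg Subtype.val h)
  · obtain ⟨y, hy⟩ := LO_le_range S x.2
    exact ⟨y, Subtype.ext hy⟩

theorem simple_LO (h4 : 4 ≤ Nat.card F) : IsSimpleGroup ↥S.LO := by
  have hc : CharP F 2 := CharTwo.of_one_ne_zero_of_two_eq_zero one_ne_zero S.two
  obtain ⟨e⟩ := nonempty_LO S
  obtain ⟨e'⟩ := Cfsg.Agent.WeakTI.PslTwo.nonempty_equiv (F := F)
  have hs : IsSimpleGroup (Matrix.ProjectiveSpecialLinearGroup (Fin 2) F) :=
    Matrix.ProjectiveSpecialLinearGroup.rank_two_simple h4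
  exact (e.trans e').isSimpleGroup

theorem map_LO : (S.LO).map (S.ck 2).toMonoidHom = M5 S := by
  unfold M5
  show (S.XZ 1 ⊔ S.XZ 9).map (S.ck 2).toMonoidHom = _
  rw [Subgroup.map_sup, S.map_X, S.map_X]
  norm_num

theorem simple_M5 (h4 : 4 ≤ Nat.card F) : IsSimpleGroup ↥(M5 S) := by
  have h1 := simple_LO S h4
  have e : ↥(S.LO) ≃* ↥(M5 S) := ((S.LO).equivMapOfInjective (S.ck 2).toMonoidHom (S.ck 2).injective).trans
    (MulEquiv.subgroupCongr (map_LO S))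
  exact e.symm.isSimpleGroup

theorem card_M5 : Nat.card (M5 S) = Nat.card S.LO := by
  rw [← map_LO S, card_map_of_injective (S.ck 2).injective]

theorem LO_inf_M5 (h4 : 4 ≤ Nat.card F) {x : G} (hx : x ∈ S.LO) (hx' : x ∈ M5 S) : x = 1 := by
  have h1 := simple_LO S h4
  have h2 : (⟨x, hx⟩ : S.LO) ∈ center S.LO :=
    mem_center_iff.2 fun y => Subtype.ext (comm_M5 S y.2 hx')
  rcases (inferInstance : (center S.LO).Normal).eq_bot_or_eq_top with h3 | h3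
  · rw [h3, mem_bot] at h2
    exact congrArg Subtype.val h2
  · exfalso
    have h5 : (⟨e3 S, e3_mem S⟩ : S.LO) ∈ center S.LO := by rw [h3]; trivial
    have h6 := congrArg Subtype.val (mem_center_iff.1 h5 ⟨S.n1, S.n1_mem_LO⟩)
    have h7 : S.n1 * e3 S = e3 S * S.n1 := h6
    have h8 := n1_e3 S
    rw [h7, mul_inv_cancel_right] at h8
    apply e3_ne S
    have h9 : e3 S * e3 S = 1 := by nth_rw 2 [h8]; exact mul_inv_cancel _
    have h10 := e3_cube S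
    rwa [h9, one_mul] at h10

theorem norm_NO {l n : G} (hl : l ∈ S.LO) (hn : n ∈ S.NO) : l * n * l⁻¹ ∈ S.NO := by
  refine ⟨?_, ?_⟩
  · exact (mem_normalizer_iff.1 (S.zsys8.le_normalizer (a := 2) (b := 8) (by norm_num) (S.LO_le_J hl)) _).1 hn.1
  · refine S.mem_centralizer_X5.2 ?_
    intro s
    have h1 := S.mem_centralizer_X5.1 hn.2 s
    have h2 := LO_o2 S hl s
    have h3 := LO_o2 S (inv_mem hl) s
    calc l * n * l⁻¹ * S.o 2 s = l * n * (l⁻¹ * S.o 2 s) := by group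
      _ = l * (n * S.o 2 s) * l⁻¹ := by rw [h3]; group
      _ = (l * S.o 2 s) * n * l⁻¹ := by rw [h1]; group
      _ = _ := by rw [h2]; group

theorem HO_split {v : G} (hv : v ∈ S.HO) : ∃ l ∈ S.LO, ∃ n ∈ S.NO, v = l * n :=
  mem_sup_of_norm (A := S.LO) (B := S.NO) (fun _ ha _ hb => norm_NO S ha hb) hv

/-- no involution of `LO` commutes with an element of order `p` of `LO` -/
theorem LO_no_inv (hF : ∃ d : Fˣ, d ≠ 1) (hR : S.R.p = 2) (h4 : 4 ≤ Nat.card F) {p : ℕ} [hp : Fact p.Prime] (hp2 : p ≠ 2)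
    (hpq : ¬ p ∣ Nat.card F - 1) {e t : G} (he : e ∈ S.LO) (hep : orderOf e = p) (ht : t ∈ S.LO) (ht2 : t * t = 1)
    (hc : e * t = t * e) : t = 1 := by
  by_contra ht1
  have hbp : orderOf (S.ck 2 e) = p := by rw [MulEquiv.orderOf_eq, hep]
  have hbM : S.ck 2 e ∈ M5 S := ck_LO S he
  have hab : e * S.ck 2 e = S.ck 2 e * e := comm_M5 S he hbM
  obtain ⟨hE, hEc⟩ := pair_sup hep hbp hab (fun h => by
    have h1 : S.ck 2 e ∈ S.LO := (zpowers_le.2 he) h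
    have h2 := LO_inf_M5 S h4 h1 hbM
    rw [h2, orderOf_one] at hbp
    exact hp.out.one_lt.ne hbp)
  refine Cfsg.Agent.PreUniq.LowExc.TwF4.not_pair S hF hR hp.out hp2 hpq hE hEc ht2 ht1 ?_
  have h1 : zpowers e ⊔ zpowers (S.ck 2 e) ≤ centralizer {t} := by
    refine sup_le (zpowers_le.2 ?_) (zpowers_le.2 ?_)
    · rw [mem_centralizer_singleton_iff]
      exact hc
    · rw [mem_centralizer_singleton_iff]
      exact (comm_M5 S ht hbM).symm
  intro a ha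
  exact mem_centralizer_singleton_iff.1 (h1 ha)

/-- **the main step, given `C_NO(e) ≤ X_5`** -/
theorem le_LO_of (hF : ∃ d : Fˣ, d ≠ 1) (hR : S.R.p = 2) (h4 : 4 ≤ Nat.card F) {p : ℕ} [hp : Fact p.Prime]
    (hp2 : p ≠ 2) (hpq : ¬ p ∣ Nat.card F - 1) {e : G} (he : e ∈ S.LO) (hep : orderOf e = p)
    (hcent : ∀ q ∈ S.NO, e * q = q * e → q ∈ S.XZ 5) {V : Subgroup G} (hV : VP p e V) : V ≤ S.LO := by
  have hpL : p ∣ Nat.card S.LO := by
    have h1 := orderOf_dvd_natCard (⟨e, he⟩ : S.LO)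
    rwa [Subgroup.orderOf_mk, hep] at h1
  have hM := simple_M5 S h4
  have hVM : ∀ x ∈ V, x ∈ M5 S → x = 1 := fun x hx hx' =>
    hV.inf_simple hp.out (fun z hz => comm_M5 S he hz) (by rw [card_M5]; exact hpL) hx hx'
  have hZM : ∀ z ∈ S.XZ 5, z ∈ M5 S := fun z hz => mem_sup_left hz
  refine cop (Z := S.XZ 5) (C := S.LO) ?_ ?_ ?_ ?_ ?_ ?_
  · intro z hz z' hz'
    obtain ⟨s, rfl⟩ := (mem_X5 S).1 hz
    obtain ⟨s', rfl⟩ := (mem_X5 S).1 hz'
    rw [S.o_add, S.o_add, add_comm]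
  · intro z hz
    obtain ⟨s, rfl⟩ := (mem_X5 S).1 hz
    exact o_sq S _ _
  · have h5 := H42.Tw.card_odd S 2
    rw [show (2 : ℤ) * 2 + 1 = 5 by norm_num] at h5
    rw [h5]
    exact h4
  · exact fun z hz v hv => hV.norm z (comm_M5 S he (hZM z hz)) v hv
  · intro z hz hz1 v hv hc
    obtain ⟨s, rfl⟩ := (mem_X5 S).1 hz
    have hs : s ≠ 0 := by
      rintro rfl
      exact hz1 (S.o_zero _)
    have hvH : v ∈ S.HO := by
      rw [← S.centralizer_o hs, mem_centralizer_singleton_iff]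
      exact hc.symm
    obtain ⟨l, hl, n, hn, rfl⟩ := HO_split S hvH
    have hev := hV.cent _ hv
    have h1 : l⁻¹ * (e * l * e⁻¹) = n * (e * n * e⁻¹)⁻¹ := by
      have h2 : e * l * e⁻¹ * (e * n * e⁻¹) = l * n := by
        calc e * l * e⁻¹ * (e * n * e⁻¹) = e * (l * n) * e⁻¹ := by group
          _ = l * n := by rw [hev, mul_inv_cancel_right]
      calc l⁻¹ * (e * l * e⁻¹) = l⁻¹ * (e * l * e⁻¹ * (e * n * e⁻¹)) * (e * n * e⁻¹)⁻¹ := by group
        _ = _ := by rw [h2]; group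
    have h3 : l⁻¹ * (e * l * e⁻¹) = 1 := LO_inf28 S hF hR (mul_mem (inv_mem hl) (mul_mem (mul_mem he hl) (inv_mem he))) (by
      rw [h1]
      exact mul_mem hn.1 (inv_mem (norm_NO S he hn).1))
    have hel : e * l = l * e := mul_inv_eq_iff_eq_mul.1 (inv_mul_eq_one.1 h3).symm
    have hen : e * n = n * e := by
      rw [h1] at h3
      exact mul_inv_eq_iff_eq_mul.1 (mul_inv_eq_one.1 h3).symm
    have hn5 := hcent n hn hen
    have hln := comm_M5 S hl (hZM n hn5)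
    -- `l` has odd order
    have hlo : ¬ 2 ∣ orderOf l := by
      intro hd
      obtain ⟨k, hk⟩ := hd
      have h4' : (l ^ k) * (l ^ k) = 1 := by
        rw [← pow_add, ← two_mul, ← hk, pow_orderOf_eq_one]
      have h5 : e * l ^ k = l ^ k * e := ((show Commute e l from hel).pow_right k).eq
      have h6 := LO_no_inv S hF hR h4 hp2 hpq he hep (pow_mem hl k) h4' h5
      have h7 := orderOf_dvd_of_pow_eq_one h6
      have h8 : 0 < orderOf l := orderOf_pos l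
      rw [hk] at h7 h8
      have h9 := Nat.le_of_dvd (by omega) h7
      omega
    have hun : n ^ orderOf l = 1 := by
      apply hVM
      · have h5 : (l * n) ^ orderOf l = n ^ orderOf l := by
          rw [(show Commute l n from hln).mul_pow, pow_orderOf_eq_one, one_mul]
        rw [← h5]
        exact pow_mem hv _
      · exact pow_mem (hZM n hn5) _
    have hn1 : n = 1 := by
      obtain ⟨s', rfl⟩ := (mem_X5 S).1 hn5
      have h5 : orderOf (S.o 2 s') ∣ 2 ^ 1 := orderOf_dvd_of_pow_eq_one (by rw [pow_one, pow_two]; exact o_sq S _ _)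
      have h6 := orderOf_dvd_of_pow_eq_one hun
      have h7 : Nat.Coprime (orderOf l) (2 ^ 1) :=
        Nat.Coprime.pow_right 1 ((Nat.Prime.coprime_iff_not_dvd Nat.prime_two).2 hlo).symm
      exact orderOf_eq_one_iff.1 (Nat.eq_one_of_dvd_coprimes h7 h6 h5)
    rw [hn1, mul_one]
    exact hl
  · exact fun v hv hvL hv2 => LO_no_inv S hF hR h4 hp2 hpq he hep hvL hv2 (hV.cent v hv)

theorem le_LO (hF : ∃ d : Fˣ, d ≠ 1) (hR : S.R.p = 2) (h4 : 4 ≤ Nat.card F) {p : ℕ} [hp : Fact p.Prime]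
    (hp5 : 5 ≤ p) (hpq : ¬ p ∣ Nat.card F - 1) {e : G} (he : e ∈ S.LO) (hep : orderOf e = p)
    {V : Subgroup G} (hV : VP p e V) : V ≤ S.LO := by
  refine le_LO_of S hF hR h4 (by omega) hpq he hep (fun q hq h => cent_NO_five S hF hR he ?_ ?_ hq h) hV
  · intro h0
    have h1 := Nat.le_of_dvd (by norm_num) (orderOf_dvd_of_pow_eq_one h0)
    omega
  · intro h0
    have h1 := Nat.le_of_dvd (by norm_num) (orderOf_dvd_of_pow_eq_one h0)
    omega

theorem le_M5 (hF : ∃ d : Fˣ, d ≠ 1) (hR : S.R.p = 2) (h4 : 4 ≤ Nat.card F) {p : ℕ} [hp : Fact p.Prime]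
    (hp5 : 5 ≤ p) (hpq : ¬ p ∣ Nat.card F - 1) {y : G} (hy : y ∈ M5 S) (hyp : orderOf y = p)
    {V : Subgroup G} (hV : VP p y V) : V ≤ M5 S := by
  rw [← map_LO S] at hy
  obtain ⟨y', hy', rfl⟩ := hy
  have h1 := hV.map (S.ck 2).symm
  have e1 : (S.ck 2).symm ((S.ck 2).toMonoidHom y') = y' := (S.ck 2).symm_apply_apply y'
  rw [e1] at h1
  have h2 : orderOf y' = p := by
    rw [← hyp]
    exact ((S.ck 2).orderOf_eq y').symm
  have h3 := le_LO S hF hR h4 hp5 hpq hy' h2 h1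
  intro v hv
  have h4' := h3 ⟨v, hv, rfl⟩
  rw [← map_LO S]
  exact ⟨_, h4', (S.ck 2).apply_symm_apply v⟩

/-- **balance for `p ≥ 5` dividing `q + 1`** -/
theorem bal_plus (hF : ∃ d : Fˣ, d ≠ 1) (h4 : 4 ≤ Nat.card F) (hR : S.R.p = 2)
    (hG : Nat.card G = H42.Tw.ord (Nat.card F)) {p : ℕ} [hp : Fact p.Prime] (hp5 : 5 ≤ p)
    (hpq : p ∣ Nat.card F + 1) {E : Subgroup G} (hE : ∀ a ∈ E, a ^ p = 1)
    (hc : Nat.card E = p ^ 2) {x : G} (hx : ∀ a ∈ E, a ≠ 1 → ∃ V, VP p a V ∧ x ∈ V) : x = 1 := by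
  have hnq := H42.Tw.not_dvd_sub_one_of_plus hp5 (by omega) hpq
  have hinf : ∀ x ∈ S.LO, x ∈ M5 S → x = 1 := fun x h1 h2 => LO_inf_M5 S h4 h1 h2
  have hfac : (Nat.card G).factorization p ≤ 2 * (Nat.card S.LO).factorization p := by
    rw [hG, H42.Tw.fact_plus hp5 (by omega) hpq]
    refine Nat.mul_le_mul_left 2 ?_
    have hd : Nat.card F + 1 ∣ Nat.card S.LO := by
      rw [Cfsg.Agent.H42.Deg.F4.card_LO]
      exact dvd_mul_left _ _
    exact (Nat.factorization_le_iff_dvd (by omega) Nat.card_pos.ne').2 hd p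
  obtain ⟨g, ⟨a, ha, ha1, hga⟩, ⟨b, hb, hb1, hgb⟩⟩ := pair_lem (L := S.LO) (M := M5 S) (p := p) (S.ck 2)
    (fun l hl => ck_LO S hl) (fun l hl m hm => comm_M5 S hl hm) hinf
    (fun P hP hPp => H42.Tw.cyc S hF hR (by omega) hnq (j := 1) P hP hPp) hfac hE hc
  obtain ⟨V, hV, hxV⟩ := hx a ha ha1
  obtain ⟨W, hW, hxW⟩ := hx b hb hb1
  have hord : ∀ c ∈ E, c ≠ 1 → orderOf (g * c * g⁻¹) = p := by
    intro c hc hc1
    rw [← orderOf_eq_prime (hE c hc) hc1]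
    exact (MulAut.conj g).orderOf_eq c
  have h1 := le_LO S hF hR h4 hp5 hnq hga (hord a ha ha1) (hV.map (MulAut.conj g))
  have h2 := le_M5 S hF hR h4 hp5 hnq hgb (hord b hb hb1) (hW.map (MulAut.conj g))
  have h3 : g * x * g⁻¹ = 1 := hinf _ (h1 ⟨x, hxV, rfl⟩) (h2 ⟨x, hxW, rfl⟩)
  have := congrArg (fun y => g⁻¹ * y * g) h3
  simpa [mul_assoc] using this

end Cfsg.Agent.H240.BalTwF
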