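import Cfsg.Agent.H772.TF.PlusH
import Cfsg.Agent.H496.TwEight.HOFacts

/-!
# Balance for `²F₄(q)` (S2188, task 2705): the action of `LO ≅ SL₂(q)` on `NO` (helper240)

* `Rp g A` : `g ∈ LO` acts on `W46 ≅ F²` by the matrix `A` and on `X_3 X_7` modulo `X_5` by `σ(A)`;
* `Tp u T` : `u` acts on `X_3 X_7` by `[u, x(v)] = w(T v)`;
* `comm` : if `g` and `u` commute, `A T = T σ(A)`; `trace` : then `T = 0` or `A² = 1` or `A³ = 1`.
-/

set_option autoImplicit false
set_option linter.unusedSectionVars false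

namespace Cfsg.Agent.H240.BalTwF

open Subgroup Cfsg Matrix
open Cfsg.Agent.SplitTwo Cfsg.Agent.SplitTwo.ZS Cfsg.Agent.TitsThree.RankTwoZ Cfsg.Agent.SplitTwo.RootSysZ
open Cfsg.Agent.KFacts.TwF4 Cfsg.Agent.KFacts.TwF4.Arc Cfsg.Agent.KFacts.TwF4.Irr Cfsg.Agent.KFacts.TwF4.Perf
open Cfsg.Agent.KFacts.TwF4.Inv
open Cfsg.Agent.H772.TF

universe u

/-! ### two by two matrices -/

section mat

variable {F : Type*} [Field F] (σ : F →+* F)

theorem mv0 (A : Matrix (Fin 2) (Fin 2) F) (v : Fin 2 → F) : (A.mulVec v) 0 = A 0 0 * v 0 + A 0 1 * v 1 := by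
  simp [Matrix.mulVec, dotProduct, Fin.sum_univ_two]

theorem mv1 (A : Matrix (Fin 2) (Fin 2) F) (v : Fin 2 → F) : (A.mulVec v) 1 = A 1 0 * v 0 + A 1 1 * v 1 := by
  simp [Matrix.mulVec, dotProduct, Fin.sum_univ_two]

theorem mul2 (A B : Matrix (Fin 2) (Fin 2) F) (i j : Fin 2) : (A * B) i j = A i 0 * B 0 j + A i 1 * B 1 j := by
  simp [Matrix.mul_apply, Fin.sum_univ_two]

/-- Cayley–Hamilton -/
theorem sq_eq (h2 : (2 : F) = 0) {A : Matrix (Fin 2) (Fin 2) F} (hA : A.det = 1) : A * A = A.trace • A + 1 := by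
  rw [Matrix.det_fin_two] at hA
  ext i j
  rw [mul2, Matrix.add_apply, Matrix.smul_apply, Matrix.trace_fin_two, smul_eq_mul]
  fin_cases i <;> fin_cases j <;> simp
  · linear_combination -hA - h2
  · ring
  · ring
  · linear_combination -hA - h2

theorem map_one_mat : (1 : Matrix (Fin 2) (Fin 2) F).map σ = 1 := by
  rw [Matrix.map_one _ (map_zero σ) (map_one σ)]

/-- **the trace lemma** -/
theorem trace_lem (h2 : (2 : F) = 0) (hσ : ∀ x, σ (σ x) = x ^ 2) {A T : Matrix (Fin 2) (Fin 2) F} (hA : A.det = 1)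
    (h : A * T = T * A.map σ) : T = 0 ∨ A * A = 1 ∨ A * A * A = 1 := by
  by_cases hT : T = 0
  · exact Or.inl hT
  right
  have hAσ : (A.map σ).det = 1 := by
    rw [Matrix.det_fin_two] at hA ⊢
    simp only [Matrix.map_apply]
    rw [← map_mul, ← map_mul, ← map_sub, hA, map_one]
  have htr : (A.map σ).trace = σ A.trace := by
    rw [Matrix.trace_fin_two, Matrix.trace_fin_two]
    simp only [Matrix.map_apply]
    rw [← map_add]
  have h1 : A * A * T = T * (A.map σ * A.map σ) := by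
    rw [mul_assoc, h, ← mul_assoc, h, mul_assoc]
  rw [sq_eq h2 hA, sq_eq h2 hAσ, htr, add_mul, mul_add, one_mul, mul_one, smul_mul_assoc, mul_smul_comm, ← h] at h1
  have h3 : A.trace • (A * T) = σ A.trace • (A * T) := add_right_cancel h1
  have hAT : A * T ≠ 0 := by
    intro h0
    apply hT
    have h4 : IsUnit A.det := by rw [hA]; exact isUnit_one
    have h5 : A⁻¹ * (A * T) = T := Matrix.nonsing_inv_mul_cancel_left A T h4
    rw [← h5, h0, mul_zero]
  have h4 : A.trace = σ A.trace := by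
    by_contra hne
    have h5 : (A.trace - σ A.trace) • (A * T) = 0 := by rw [sub_smul, h3, sub_self]
    rcases smul_eq_zero.1 h5 with h6 | h6
    · exact hne (sub_eq_zero.1 h6)
    · exact hAT h6
  have h5 : A.trace * (A.trace - 1) = 0 := by
    have h6 := hσ A.trace
    rw [← h4, ← h4] at h6
    linear_combination -h6
  rcases mul_eq_zero.1 h5 with h6 | h6
  · left
    rw [sq_eq h2 hA, h6, zero_smul, zero_add]
  · right
    have h7 : A.trace = 1 := sub_eq_zero.1 h6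
    have h8 : A * A = A + 1 := by rw [sq_eq h2 hA, h7, one_smul]
    rw [h8, add_mul, one_mul, h8]
    ext i j
    have h9 : A i j + A i j = 0 := by rw [← two_mul, h2, zero_mul]
    rw [Matrix.add_apply, Matrix.add_apply]
    linear_combination h9

/-- a fixed vector -/
theorem fix_lem (h2 : (2 : F) = 0) {A : Matrix (Fin 2) (Fin 2) F} (hA : A.det = 1) {v : Fin 2 → F} (hv : v ≠ 0)
    (h : A.mulVec v = v) : A * A = 1 := by
  have h1 : (A - 1).mulVec v = 0 := by rw [Matrix.sub_mulVec, h, Matrix.one_mulVec, sub_self]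
  have h3 : (A - 1).det = 0 := by
    by_contra hne
    exact hv (Matrix.eq_zero_of_mulVec_eq_zero hne h1)
  rw [Matrix.det_fin_two] at h3 hA
  have h4 : A.trace = 0 := by
    rw [Matrix.trace_fin_two]
    simp at h3
    linear_combination hA - h3 + h2
  rw [sq_eq h2 (by rw [Matrix.det_fin_two]; exact hA), h4, zero_smul, zero_add]

end mat

variable {F : Type*} [Field F] {σ : F →+* F} {G : Type u} [Group G] (S : Full σ G)

/-- the element of `W46` with coordinates `v` -/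
def ww (v : Fin 2 → F) : G := S.e 2 0 (v 0) * S.e 3 0 (v 1)

/-- the element of `X_3 X_7` with coordinates `v` -/
def xx (v : Fin 2 → F) : G := S.o 1 (v 0) * S.o 3 (v 1)

theorem ww_mem (v : Fin 2 → F) : ww S v ∈ S.W46 := ⟨v 0, v 1, rfl⟩

theorem exists_ww {w : G} (hw : w ∈ S.W46) : ∃ v, ww S v = w := by
  obtain ⟨a, b, rfl⟩ := hw
  exact ⟨![a, b], rfl⟩

theorem ww_inj {v v' : Fin 2 → F} (h : ww S v = ww S v') : v = v' := by
  obtain ⟨h1, h2⟩ := W_uniq S h
  ext i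
  fin_cases i
  · exact h1
  · exact h2

theorem ww_zero : ww S 0 = 1 := by
  show S.e 2 0 0 * S.e 3 0 0 = 1
  rw [S.e_zero, S.e_zero, one_mul]

theorem ww_one {v : Fin 2 → F} (h : ww S v = 1) : v = 0 := ww_inj S (by rw [h, ww_zero])

theorem ee_comm (a b : F) : S.e 2 0 a * S.e 3 0 b = S.e 3 0 b * S.e 2 0 a := by
  have := S.e_e1 2 0 a 0 b
  rw [mul_zero, S.o_zero, mul_one] at this
  exact this

theorem ez_mul (a : ZMod 8) (u v : F) : S.e a 0 u * S.e a 0 v = S.e a 0 (u + v) := by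
  rw [S.e_mul, map_zero, mul_zero, add_zero, add_zero]

theorem ww_add (v v' : Fin 2 → F) : ww S (v + v') = ww S v * ww S v' := by
  show S.e 2 0 (v 0 + v' 0) * S.e 3 0 (v 1 + v' 1) = S.e 2 0 (v 0) * S.e 3 0 (v 1) * (S.e 2 0 (v' 0) * S.e 3 0 (v' 1))
  rw [← ez_mul, ← ez_mul]
  calc S.e 2 0 (v 0) * S.e 2 0 (v' 0) * (S.e 3 0 (v 1) * S.e 3 0 (v' 1)) =
      S.e 2 0 (v 0) * (S.e 2 0 (v' 0) * S.e 3 0 (v 1)) * S.e 3 0 (v' 1) := by group
    _ = _ := by rw [ee_comm]; group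

theorem xx_mem (v : Fin 2 → F) : xx S v ∈ J S.XZ 2 8 :=
  mul_mem (mem_J (S.mX3 _) (by norm_num) (by norm_num)) (mem_J (S.mX7 _) (by norm_num) (by norm_num))

/-- `LO` commutes with `X_5` -/
theorem LO_o2 {g : G} (hg : g ∈ S.LO) (f : F) : g * S.o 2 f = S.o 2 f * g :=
  S.mem_centralizer_X5.1 (S.LO_le_cent hg) f

/-- `g` acts by `A` and `σ(A)` -/
structure Rp (g : G) (A : Matrix (Fin 2) (Fin 2) F) : Prop where
  mem : g ∈ S.LO
  w : ∀ v, g * ww S v = ww S (A.mulVec v) * g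
  x : ∀ v, ∃ f, g * xx S v = xx S ((A.map σ).mulVec v) * S.o 2 f * g

variable {S}

theorem Rp.mul {g h : G} {A B : Matrix (Fin 2) (Fin 2) F} (hg : Rp S g A) (hh : Rp S h B) : Rp S (g * h) (A * B) where
  mem := mul_mem hg.mem hh.mem
  w v := by
    rw [mul_assoc, hh.w, ← mul_assoc, hg.w, Matrix.mulVec_mulVec, mul_assoc]
  x v := by
    obtain ⟨f, hf⟩ := hh.x v
    obtain ⟨f', hf'⟩ := hg.x ((B.map σ).mulVec v)
    refine ⟨f' + f, ?_⟩
    rw [Matrix.map_mul, ← Matrix.mulVec_mulVec, ← S.o_add]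
    calc g * h * xx S v = g * (h * xx S v) := by group
      _ = g * xx S ((B.map σ).mulVec v) * S.o 2 f * h := by rw [hf]; group
      _ = xx S ((A.map σ).mulVec ((B.map σ).mulVec v)) * S.o 2 f' * (g * S.o 2 f) * h := by rw [hf']; group
      _ = _ := by rw [LO_o2 S hg.mem]; group

theorem Rp.inv {g : G} {A : Matrix (Fin 2) (Fin 2) F} (hg : Rp S g A) (hA : A.det = 1) : Rp S g⁻¹ A⁻¹ where
  mem := inv_mem hg.mem
  w v := by
    have h1 := hg.w (A⁻¹.mulVec v)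
    rw [Matrix.mulVec_mulVec, Matrix.mul_nonsing_inv A (by rw [hA]; exact isUnit_one), Matrix.one_mulVec] at h1
    rw [inv_mul_eq_iff_eq_mul, ← mul_assoc, h1, mul_inv_cancel_right]
  x v := by
    obtain ⟨f, hf⟩ := hg.x ((A⁻¹.map σ).mulVec v)
    rw [Matrix.mulVec_mulVec, ← Matrix.map_mul, Matrix.mul_nonsing_inv A (by rw [hA]; exact isUnit_one), map_one_mat,
      Matrix.one_mulVec] at hf
    refine ⟨f, ?_⟩
    rw [inv_mul_eq_iff_eq_mul]
    have h1 : S.o 2 f * S.o 2 f = 1 := o_sq S _ _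
    have h3 := LO_o2 S hg.mem f
    calc xx S v = xx S v * S.o 2 f * (g * g⁻¹) * S.o 2 f := by rw [mul_inv_cancel, mul_one, mul_assoc, h1, mul_one]
      _ = (xx S v * S.o 2 f * g) * g⁻¹ * S.o 2 f := by group
      _ = g * xx S ((A⁻¹.map σ).mulVec v) * (g⁻¹ * S.o 2 f) := by rw [← hf]; group
      _ = g * xx S ((A⁻¹.map σ).mulVec v) * (S.o 2 f * g⁻¹) := by rw [LO_o2 S (inv_mem hg.mem)]
      _ = _ := by group

theorem Rp.one : Rp S (1 : G) 1 where
  mem := one_mem _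
  w v := by rw [Matrix.one_mulVec, one_mul, mul_one]
  x v := ⟨0, by rw [map_one_mat, Matrix.one_mulVec, one_mul, S.o_zero, mul_one, mul_one]⟩

theorem Rp.pow {g : G} {A : Matrix (Fin 2) (Fin 2) F} (hg : Rp S g A) (n : ℕ) : Rp S (g ^ n) (A ^ n) := by
  induction n with
  | zero => rw [pow_zero, pow_zero]; exact Rp.one
  | succ n ih => rw [pow_succ, pow_succ]; exact ih.mul hg

variable (S)

theorem rp_o0 (t : F) : Rp S (S.o 0 t) !![1, t; 0, 1] where
  mem := mem_sup_left (S.mX1 t)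
  w v := by
    have h1 : S.o 0 t * S.e 2 0 (v 0) = S.e 2 0 (v 0) * S.o 0 t := by
      have := S.o_e2 0 t 0 (v 0)
      rw [mul_zero, S.e_zero, mul_one] at this
      exact this
    have h2 : S.o 0 t * S.e 3 0 (v 1) = S.e 3 0 (v 1) * S.o 0 t * S.e 2 0 (t * v 1) := by
      have := S.o_e3 0 t 0 (v 1)
      simp only [mul_zero, map_zero, zero_add, S.e_zero, S.o_zero, mul_one] at this
      exact this
    have h3 : S.o 0 t * S.e 2 0 (t * v 1) = S.e 2 0 (t * v 1) * S.o 0 t := by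
      have := S.o_e2 0 t 0 (t * v 1)
      rw [mul_zero, S.e_zero, mul_one] at this
      exact this
    show S.o 0 t * (S.e 2 0 (v 0) * S.e 3 0 (v 1)) = S.e 2 0 _ * S.e 3 0 _ * S.o 0 t
    rw [mv0, mv1]
    simp only [Matrix.of_apply, Matrix.cons_val', Matrix.cons_val_zero, Matrix.cons_val_one, Matrix.cons_val_fin_one,
      one_mul, zero_mul, zero_add]
    rw [← ez_mul]
    calc S.o 0 t * (S.e 2 0 (v 0) * S.e 3 0 (v 1)) = S.o 0 t * S.e 2 0 (v 0) * S.e 3 0 (v 1) := by group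
      _ = S.e 2 0 (v 0) * (S.o 0 t * S.e 3 0 (v 1)) := by rw [h1]; group
      _ = S.e 2 0 (v 0) * S.e 3 0 (v 1) * (S.o 0 t * S.e 2 0 (t * v 1)) := by rw [h2]; group
      _ = S.e 2 0 (v 0) * (S.e 3 0 (v 1) * S.e 2 0 (t * v 1)) * S.o 0 t := by rw [h3]; group
      _ = _ := by rw [← ee_comm]; group
  x v := by
    refine ⟨t * σ (v 1), ?_⟩
    show S.o 0 t * (S.o 1 (v 0) * S.o 3 (v 1)) = S.o 1 _ * S.o 3 _ * S.o 2 (t * σ (v 1)) * S.o 0 t
    rw [mv0, mv1]
    simp only [Matrix.map_apply, Matrix.of_apply, Matrix.cons_val', Matrix.cons_val_zero, Matrix.cons_val_one,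
      Matrix.cons_val_fin_one, map_one, map_zero, one_mul, zero_mul, zero_add]
    rw [← S.o_add]
    have h1 : ∀ s, S.o 0 t * S.o 1 s = S.o 1 s * S.o 0 t := fun s => S.o_o1 0 t s
    have h2 : ∀ s, S.o 0 t * S.o 2 s = S.o 2 s * S.o 0 t := fun s => S.o_o2 0 t s
    have h3 : S.o 0 t * S.o 3 (v 1) = S.o 3 (v 1) * S.o 0 t * S.o 1 (σ t * v 1) * S.o 2 (t * σ (v 1)) :=
      S.o_o3 0 t (v 1)
    have h4 : S.o 1 (σ t * v 1) * S.o 3 (v 1) = S.o 3 (v 1) * S.o 1 (σ t * v 1) := S.o_o2 1 _ _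
    calc S.o 0 t * (S.o 1 (v 0) * S.o 3 (v 1)) = S.o 0 t * S.o 1 (v 0) * S.o 3 (v 1) := by group
      _ = S.o 1 (v 0) * (S.o 0 t * S.o 3 (v 1)) := by rw [h1]; group
      _ = S.o 1 (v 0) * S.o 3 (v 1) * (S.o 0 t * S.o 1 (σ t * v 1)) * S.o 2 (t * σ (v 1)) := by rw [h3]; group
      _ = S.o 1 (v 0) * (S.o 3 (v 1) * S.o 1 (σ t * v 1)) * (S.o 0 t * S.o 2 (t * σ (v 1))) := by rw [h1]; group
      _ = _ := by rw [h2, ← h4]; group

theorem rp_n1 : Rp S S.n1 !![0, 1; 1, 0] where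
  mem := S.n1_mem_LO
  w v := by
    have h1 : ∀ a, S.n1 * S.e 2 0 a = S.e 3 0 a * S.n1 := fun a => by
      have := S.n1_e 2 0 a
      rw [mul_inv_eq_iff_eq_mul] at this
      exact this
    have h2 : ∀ a, S.n1 * S.e 3 0 a = S.e 2 0 a * S.n1 := fun a => by
      have := S.n1_e 3 0 a
      rw [mul_inv_eq_iff_eq_mul] at this
      exact this
    show S.n1 * (S.e 2 0 (v 0) * S.e 3 0 (v 1)) = S.e 2 0 _ * S.e 3 0 _ * S.n1
    rw [mv0, mv1]
    simp only [Matrix.of_apply, Matrix.cons_val', Matrix.cons_val_zero, Matrix.cons_val_one, Matrix.cons_val_fin_one,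
      one_mul, zero_mul, zero_add, add_zero]
    rw [← mul_assoc, h1, mul_assoc, h2, ← mul_assoc, ← ee_comm]
  x v := by
    have h1 : ∀ a, S.n1 * S.o 1 a = S.o 3 a * S.n1 := fun a => by
      have := S.n1_o 1 a
      rw [mul_inv_eq_iff_eq_mul] at this
      exact this
    have h2 : ∀ a, S.n1 * S.o 3 a = S.o 1 a * S.n1 := fun a => by
      have := S.n1_o 3 a
      rw [mul_inv_eq_iff_eq_mul] at this
      exact this
    refine ⟨0, ?_⟩
    show S.n1 * (S.o 1 (v 0) * S.o 3 (v 1)) = S.o 1 _ * S.o 3 _ * S.o 2 0 * S.n1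
    rw [mv0, mv1, S.o_zero, mul_one]
    simp only [Matrix.map_apply, Matrix.of_apply, Matrix.cons_val', Matrix.cons_val_zero, Matrix.cons_val_one,
      Matrix.cons_val_fin_one, map_one, map_zero, one_mul, zero_mul, zero_add, add_zero]
    have h4 : S.o 1 (v 1) * S.o 3 (v 0) = S.o 3 (v 0) * S.o 1 (v 1) := S.o_o2 1 _ _
    rw [← mul_assoc, h1, mul_assoc, h2, ← mul_assoc, ← h4]

theorem exists_Rp {g : G} (hg : g ∈ S.LO) : ∃ A : Matrix (Fin 2) (Fin 2) F, A.det = 1 ∧ Rp S g A := by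
  let K : Subgroup G :=
    { carrier := {g | ∃ A : Matrix (Fin 2) (Fin 2) F, A.det = 1 ∧ Rp S g A}
      one_mem' := ⟨1, Matrix.det_one, Rp.one⟩
      mul_mem' := by
        rintro g h ⟨A, hA, hg⟩ ⟨B, hB, hh⟩
        exact ⟨A * B, by rw [Matrix.det_mul, hA, hB, mul_one], hg.mul hh⟩
      inv_mem' := by
        rintro g ⟨A, hA, hg⟩
        exact ⟨A⁻¹, by rw [Matrix.det_nonsing_inv, hA, Ring.inverse_one], hg.inv hA⟩ }
  have h0 : ∀ t, S.o 0 t ∈ K := fun t => ⟨_, by rw [Matrix.det_fin_two_of]; ring, rp_o0 S t⟩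
  have hn : S.n1 ∈ K := ⟨_, by
    rw [Matrix.det_fin_two_of]
    have h2 : (2 : F) = 0 := S.two
    linear_combination -h2, rp_n1 S⟩
  have hLO : S.LO ≤ K := by
    refine sup_le (fun x hx => ?_) (fun x hx => ?_)
    · obtain ⟨t, rfl⟩ := (mem_X1 S).1 hx
      exact h0 t
    · obtain ⟨t, rfl⟩ := (mem_X9 S).1 hx
      have h1 := S.n1_o 0 t
      rw [sub_zero] at h1
      rw [← h1]
      exact mul_mem (mul_mem hn (h0 t)) (inv_mem hn)
  exact hLO hg

section fin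

variable [Finite F] [Finite G] (hF : ∃ c : Fˣ, c ≠ 1) (hR : S.R.p = 2)
include hF hR

/-- the kernel -/
theorem Rp.eq_one {g : G} (h : Rp S g 1) : g = 1 := by
  refine LO_inf28 S hF hR h.mem ?_
  rw [← S.centralizer_W46, mem_centralizer_iff]
  intro w hw
  obtain ⟨v, rfl⟩ := exists_ww S hw
  rw [h.w v, Matrix.one_mulVec]

end fin

end Cfsg.Agent.H240.BalTwF
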